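import Mathlib
import Cfsg.Agent.S0907
import Cfsg.Agent.S0910
import Cfsg.Agent.Lib.Helper6.BlkNormalDef
import Cfsg.Agent.Lib.Helper6.BlkVanish
import Cfsg.Agent.Lib.Helper6.BrPrin
import Cfsg.Agent.Lib.Helper6.BlkDefect
import Cfsg.Agent.Lib.Helper6.BlkSections
import Cfsg.Agent.Lib.Helper6.DegreeDvd
import Cfsg.Agent.Lib.Helper6.Multiplicity
import Cfsg.Agent.Lib.Helper6.Constituent

set_option autoImplicit false

namespace Cfsg.Agent.Lib.Helper5.BrauerTuan

open Cfsg Cfsg.Agent.Lib.Helper6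
open scoped ComplexConjugate

/-- Brauer--Tuan: in a nonabelian simple group of order `s^a t^b r` no element is both
`s`-singular and `r`-singular.  Proof: weak block orthogonality for the principal `s`-block
between `1` and `y`; the characters of degree divisible by `r` have `r`-defect zero and vanish
at `y`, the other nonprincipal ones have degree divisible by `t` (S0910). -/
theorem no_sr_element {G : Type*} [Group G] [Finite G] [IsSimpleGroup G]
    (hna : ∃ a b : G, a * b ≠ b * a)
    (s t r a b : ℕ) [hsF : Fact s.Prime] (ht : t.Prime) (hr : r.Prime)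
    (hsr : s ≠ r) (htr : t ≠ r)
    (hcard : Nat.card G = s ^ a * t ^ b * r)
    (y : G) (hys : s ∣ orderOf y) (hyr : r ∣ orderOf y) : False := by
  classical
  have : Fintype G := Fintype.ofFinite G
  have : Fintype (IrrCharacter G) := Fintype.ofFinite _
  have hs : s.Prime := hsF.out
  obtain ⟨M, hM⟩ := exists_isPModular s
  have hsum := Cfsg.Agent.S0907.result s M hM (principalBlock M G) isPBlock_principalBlock
    (1 : G) y (by rw [orderOf_one]; exact hs.not_dvd_one) hys
  -- coprimality facts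
  have hcop_r : Nat.Coprime (s ^ a * t ^ b) r := by
    apply Nat.Coprime.mul_left
    · exact Nat.Coprime.pow_left _ ((Nat.coprime_primes hs hr).2 hsr)
    · exact Nat.Coprime.pow_left _ ((Nat.coprime_primes ht hr).2 htr)
  have hr1 : r ^ 1 ∣ Nat.card G := by rw [hcard, pow_one]; exact dvd_mul_left _ _
  have hr2 : ¬ r ^ (1 + 1) ∣ Nat.card G := by
    rw [hcard, pow_succ, pow_one]
    intro h
    have h2 : r ∣ s ^ a * t ^ b := by
      have := Nat.dvd_of_mul_dvd_mul_right hr.pos h
      exact this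
    have := Nat.Coprime.eq_one_of_dvd hcop_r.symm h2
    exact hr.one_lt.ne' this
  -- the key claim
  have key : ∀ χ : IrrCharacter G, χ ∈ principalBlock M G → χ ≠ oneIrr G →
      ∃ α : ℂ, IsIntegral ℤ α ∧ (χ : G → ℂ) 1 * conj ((χ : G → ℂ) y) = (t : ℂ) * α := by
    intro χ hχ hne
    have hchar := IsIrrCharacter.isCharacter χ.2
    have hd1 : (χ : G → ℂ) 1 = (charDegree (χ : G → ℂ) : ℂ) :=
      IsCharacter.apply_one_eq_charDegree hchar
    have hdvd : charDegree (χ : G → ℂ) ∣ Nat.card G := IsIrrCharacter.charDegree_dvd_card χ.2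
    have hint : IsIntegral ℤ (conj ((χ : G → ℂ) y)) :=
      isIntegral_conj (IsCharacter.isIntegral_apply hchar y)
    by_cases hrd : r ∣ charDegree (χ : G → ℂ)
    · refine ⟨0, isIntegral_zero, ?_⟩
      have h0 : (χ : G → ℂ) y = 0 :=
        IsIrrCharacter.eq_zero_of_defect_zero χ.2 r 1 hr hr1 hr2 (by rwa [pow_one]) y hyr
      rw [h0]; simp
    · have hcd : Nat.Coprime (charDegree (χ : G → ℂ)) r :=
        ((Nat.Prime.coprime_iff_not_dvd hr).2 hrd).symm
      have hdvd2 : charDegree (χ : G → ℂ) ∣ s ^ a * t ^ b := by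
        rw [hcard] at hdvd
        exact hcd.dvd_of_dvd_mul_right hdvd
      by_cases htd : t ∣ charDegree (χ : G → ℂ)
      · obtain ⟨e, he⟩ := htd
        refine ⟨(e : ℂ) * conj ((χ : G → ℂ) y), ?_, ?_⟩
        · exact IsIntegral.mul (isIntegral_natCast e) hint
        · rw [hd1, he]; push_cast; ring
      · exfalso
        have hcd2 : Nat.Coprime (charDegree (χ : G → ℂ)) (t ^ b) :=
          Nat.Coprime.pow_right _ ((Nat.Prime.coprime_iff_not_dvd ht).2 htd).symm
        have hdvd3 : charDegree (χ : G → ℂ) ∣ s ^ a := hcd2.dvd_of_dvd_mul_right hdvd2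
        obtain ⟨k, _, hk⟩ := (Nat.dvd_prime_pow hs).1 hdvd3
        have h910 := Cfsg.Agent.S0910.result s M hM hna χ hχ k (by rw [hd1, hk]; push_cast; rfl)
        apply hne
        apply Subtype.ext
        rw [h910]
        rfl
  rw [finsum_mem_eq_sum_filter_lib] at hsum
  have hmem : oneIrr G ∈ Finset.univ.filter (· ∈ principalBlock M G) := by
    rw [Finset.mem_filter]
    exact ⟨Finset.mem_univ _, oneIrr_mem_principalBlock hM⟩
  rw [← Finset.add_sum_erase _ _ hmem] at hsum
  have h1 : ((oneIrr G : IrrCharacter G) : G → ℂ) 1 * conj (((oneIrr G : IrrCharacter G) : G → ℂ) y) = 1 := by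
    show (1 : ℂ) * conj (1 : ℂ) = 1
    simp
  rw [h1] at hsum
  -- the rest is t * integral
  have hrest : ∃ α : ℂ, IsIntegral ℤ α ∧
      ∑ χ ∈ (Finset.univ.filter (· ∈ principalBlock M G)).erase (oneIrr G),
        (χ : G → ℂ) 1 * conj ((χ : G → ℂ) y) = (t : ℂ) * α := by
    have : ∀ χ : IrrCharacter G, ∃ α : ℂ, IsIntegral ℤ α ∧
        (χ ∈ (Finset.univ.filter (· ∈ principalBlock M G)).erase (oneIrr G) →
          (χ : G → ℂ) 1 * conj ((χ : G → ℂ) y) = (t : ℂ) * α) := by
      intro χ
      by_cases hχm : χ ∈ (Finset.univ.filter (· ∈ principalBlock M G)).erase (oneIrr G)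
      · rw [Finset.mem_erase, Finset.mem_filter] at hχm
        obtain ⟨α, hα, h⟩ := key χ hχm.2.2 hχm.1
        exact ⟨α, hα, fun _ => h⟩
      · exact ⟨0, isIntegral_zero, fun h => absurd h hχm⟩
    choose α hα hαeq using this
    refine ⟨∑ χ ∈ (Finset.univ.filter (· ∈ principalBlock M G)).erase (oneIrr G), α χ, ?_, ?_⟩
    · exact IsIntegral.sum _ (fun χ _ => hα χ)
    · rw [Finset.mul_sum]
      exact Finset.sum_congr rfl (fun χ hχ => hαeq χ hχ)
  obtain ⟨α, hα, hαeq⟩ := hrest
  rw [hαeq] at hsum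
  -- 1 + t α = 0 with α integral: contradiction
  have htne : (t : ℂ) ≠ 0 := by exact_mod_cast ht.ne_zero
  have hα' : -α = ((1 : ℕ) : ℂ) / (t : ℂ) := by
    field_simp
    push_cast
    linear_combination -hsum
  have hint : IsIntegral ℤ (((1 : ℕ) : ℂ) / (t : ℂ)) := by
    rw [← hα']; exact hα.neg
  have := nat_dvd_of_isIntegral_div ht.ne_zero hint
  exact ht.one_lt.ne' (Nat.dvd_one.1 this)

end Cfsg.Agent.Lib.Helper5.BrauerTuan
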